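import Groth.Agent.ValFibLib.Dim

/-! # Fibre dimensions over a Prüfer domain -/

set_option autoImplicit false
universe u

open CategoryTheory AlgebraicGeometry TopologicalSpace Topology MvPolynomial

namespace Groth.Agent.PruferFibLib

theorem exists_C_mul_eq {A B : Type u} [CommRing A] [IsDomain A] [CommRing B] [IsDomain B] (e : A ≃+* B)
    (hR : ∀ (p : Ideal A) [p.IsPrime], ValuationRing (Localization.AtPrime p))
    (p : Ideal B) (hp : p.IsPrime) {σ : Type*} (P : MvPolynomial σ B) (hP : P ≠ 0) :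
    ∃ (s c : B) (P₀ : MvPolynomial σ B), s ∉ p ∧ c ≠ 0 ∧ C s * P = C c * P₀ ∧ ∃ m, P₀.coeff m ∉ p := by
  classical
  haveI : (p.comap (e : A →+* B)).IsPrime := Ideal.comap_isPrime _ _
  haveI hdom : IsDomain (Localization.AtPrime (p.comap (e : A →+* B))) :=
    IsLocalization.isDomain_localization (Ideal.primeCompl_le_nonZeroDivisors (p.comap (e : A →+* B)))
  haveI := hR (p.comap (e : A →+* B))
  have htot : ∀ a b : B, (∃ s r, s ∉ p ∧ s * b = a * r) ∨ (∃ s r, s ∉ p ∧ s * a = b * r) := by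
    intro a b
    have key : ∀ a b : A, algebraMap A (Localization.AtPrime (p.comap (e : A →+* B))) a ∣
        algebraMap A _ b → ∃ s r, s ∉ p ∧ s * e b = e a * r := by
      rintro a b ⟨z, hz⟩
      obtain ⟨⟨r, s⟩, hrs⟩ := IsLocalization.surj (p.comap (e : A →+* B)).primeCompl z
      refine ⟨e s, e r, s.2, ?_⟩
      rw [← map_mul, ← map_mul]
      congr 1
      apply IsLocalization.injective (Localization.AtPrime (p.comap (e : A →+* B)))
        (Ideal.primeCompl_le_nonZeroDivisors (p.comap (e : A →+* B)))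
      simp only [map_mul, ← hrs, hz]
      ring
    rcases ValuationRing.dvd_total (algebraMap A (Localization.AtPrime (p.comap (e : A →+* B))) (e.symm a))
      (algebraMap A _ (e.symm b)) with h | h
    · exact Or.inl (by simpa using key _ _ h)
    · exact Or.inr (by simpa using key _ _ h)
  have : ∀ t : Finset (σ →₀ ℕ), t.Nonempty →
      ∃ m ∈ t, ∃ s, s ∉ p ∧ ∀ m' ∈ t, P.coeff m ∣ s * P.coeff m' := by
    intro t ht
    induction ht using Finset.Nonempty.cons_induction with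
    | singleton a =>
      exact ⟨a, Finset.mem_singleton_self a, 1, fun h => hp.ne_top ((Ideal.eq_top_iff_one _).2 h),
        fun m' hm' => by simp [Finset.mem_singleton.1 hm']⟩
    | cons a t ha ht ih =>
      obtain ⟨m, hm, s, hs, hdiv⟩ := ih
      rcases htot (P.coeff a) (P.coeff m) with ⟨u, r, hu, h⟩ | ⟨u, r, hu, h⟩
      · refine ⟨a, Finset.mem_cons_self a t, u * s, fun hmem => (hp.mem_or_mem hmem).elim hu hs, fun m' hm' => ?_⟩
        rcases Finset.mem_cons.1 hm' with rfl | hm'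
        · exact dvd_mul_left _ _
        · obtain ⟨d, hd⟩ := hdiv m' hm'
          exact ⟨r * d, by rw [mul_assoc, hd, ← mul_assoc, h, mul_assoc]⟩
      · refine ⟨m, Finset.mem_cons.2 (Or.inr hm), u * s, fun hmem => (hp.mem_or_mem hmem).elim hu hs, fun m' hm' => ?_⟩
        rcases Finset.mem_cons.1 hm' with rfl | hm'
        · exact ⟨s * r, by rw [mul_comm u s, mul_assoc, h]; ring⟩
        · exact (hdiv m' hm').trans ⟨u, by ring⟩
  obtain ⟨m, hm, s, hs, hdiv⟩ := this P.support (MvPolynomial.support_nonempty.2 hP)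
  have hc : P.coeff m ≠ 0 := MvPolynomial.mem_support_iff.mp hm
  obtain ⟨P₀, hP₀⟩ : C (P.coeff m) ∣ C s * P := by
    refine MvPolynomial.C_dvd_iff_dvd_coeff _ _ |>.mpr fun i ↦ ?_
    rw [MvPolynomial.coeff_C_mul]
    by_cases hi : i ∈ P.support
    · exact hdiv i hi
    · rw [MvPolynomial.notMem_support_iff.mp hi, mul_zero]; exact dvd_zero _
  refine ⟨s, P.coeff m, P₀, hs, hc, hP₀, m, ?_⟩
  have h2 := congrArg (MvPolynomial.coeff m) hP₀
  rw [MvPolynomial.coeff_C_mul, MvPolynomial.coeff_C_mul, mul_comm s] at h2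
  rwa [← mul_left_cancel₀ hc h2]

/-- A point over the generic point specializing to `x` has a closure in its fibre at least as big as the
fibre at `x`. -/
theorem fibreDimAt_le_fibreClosureDim {A : Type u} [CommRing A] [IsDomain A] (hR : ∀ (p : Ideal A) [p.IsPrime], ValuationRing (Localization.AtPrime p)) {X : Scheme.{u}}
    (f : X ⟶ Spec (CommRingCat.of A)) [LocallyOfFiniteType f] {ζ x : X} (hsp : ζ ⤳ x)
    (hζ : f.base ζ = genericPoint (Spec (CommRingCat.of A)))
    (hmax : ∀ x' : X, f.base x' = f.base x → x ∈ closure {x'} → x' = x) :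
    FlatMor.fibreDimAt f x ≤ UOpenLib.fibreClosureDim f ζ := by
  let S := Spec (CommRingCat.of A)
  let V : S.Opens := ⊤
  have hV : IsAffineOpen V := isAffineOpen_top S
  let e₀ : A ≃+* Γ(S, V) := (Scheme.ΓSpecIso (CommRingCat.of A)).commRingCatIsoToRingEquiv.symm
  haveI : IsDomain Γ(S, V) := e₀.symm.toMulEquiv.isDomain _
  obtain ⟨d, hd⟩ := UOpenLib.exists_fibreDimAt_eq_nat f x
  obtain ⟨U, hU, hxU, eUV, φ, hφ, hft, hqf⟩ := FibDimLib.exists_qf_affine_nhd f x hV trivial d hd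
  have hq := UOpenLib.comap_eq_of_le_fibreClosureDim f hV hU eUV φ hφ hqf hxU
    (by rw [← UOpenLib.fibreDimAt_eq_of_max f hmax, hd])
  have hζU : ζ ∈ U := hsp.mem_open U.2 hxU
  let p' := hV.primeIdealOf ⟨f.base ζ, eUV hζU⟩
  have hp' : p'.asIdeal = ⊥ := by
    refine le_antisymm ?_ bot_le
    let P₀ : ↥(Spec Γ(S, V)) := (⟨⊥, Ideal.isPrime_bot⟩ : PrimeSpectrum Γ(S, V))
    have h0 : hV.fromSpec p' ⤳ hV.fromSpec P₀ := by
      rw [hV.fromSpec_primeIdealOf ⟨f.base ζ, eUV hζU⟩]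
      show f.base ζ ⤳ _
      rw [hζ]
      exact genericPoint_specializes _
    exact (PrimeSpectrum.le_iff_specializes _ _).2 (hV.fromSpec.isOpenEmbedding.isInducing.specializes_iff.1 h0)
  have hle : (hU.primeIdealOf ⟨ζ, hζU⟩).asIdeal.comap φ ≤
      (hV.primeIdealOf ⟨f.base x, eUV hxU⟩).asIdeal.map C := by
    rw [← hq]
    exact Ideal.comap_mono ((UOpenLib.primeIdealOf_le_iff hU hζU hxU).2 hsp)
  have hc : ((hU.primeIdealOf ⟨ζ, hζU⟩).asIdeal.comap φ).comap C = (⊥ : Ideal Γ(S, V)) := by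
    rw [← hp']
    exact congrArg PrimeSpectrum.asIdeal (UOpenLib.comap_primeIdealOf f hV hU eUV φ hφ ζ hζU)
  have hbot : (hU.primeIdealOf ⟨ζ, hζU⟩).asIdeal.comap φ = ⊥ := by
    rw [eq_bot_iff]
    intro P hP
    by_contra hP0
    let pp := (hV.primeIdealOf ⟨f.base x, eUV hxU⟩).asIdeal
    obtain ⟨s, c, P₀, hs, hcne, hPc, m, hm⟩ :=
      exists_C_mul_eq e₀ hR pp (hV.primeIdealOf ⟨f.base x, eUV hxU⟩).isPrime P hP0
    replace hP : C c * P₀ ∈ (hU.primeIdealOf ⟨ζ, hζU⟩).asIdeal.comap φ := hPc ▸ Ideal.mul_mem_left _ _ hP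
    rcases (Ideal.IsPrime.mem_or_mem inferInstance hP) with h' | h'
    · have h2 : c ∈ ((hU.primeIdealOf ⟨ζ, hζU⟩).asIdeal.comap φ).comap C := h'
      rw [hc] at h2
      exact hcne ((Ideal.mem_bot).mp h2)
    · exact hm (MvPolynomial.mem_map_C_iff.mp (hle h') m)
  rw [hd]
  refine UOpenLib.le_fibreClosureDim_of_comap_eq f hV hU eUV φ hφ hft hζU ?_
  rw [hbot, show (hV.primeIdealOf ⟨f.base ζ, eUV hζU⟩).asIdeal = ⊥ from hp', Ideal.map_bot]

/-- If every point of the fibre over `s` is a specialization of a point of the generic fibre, the fibre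
over `s` is no bigger than the generic fibre. -/
theorem fiber_dim_le_generic {A : Type u} [CommRing A] [IsDomain A] (hR : ∀ (p : Ideal A) [p.IsPrime], ValuationRing (Localization.AtPrime p)) {X : Scheme.{u}}
    (f : X ⟶ Spec (CommRingCat.of A)) [LocallyOfFiniteType f] (s : Spec (CommRingCat.of A))
    (h : ∀ x : X, f.base x = s → ∃ ζ : X, ζ ⤳ x ∧ f.base ζ = genericPoint (Spec (CommRingCat.of A))) :
    topologicalKrullDim (f.fiber s) ≤ topologicalKrullDim (f.fiber (genericPoint (Spec (CommRingCat.of A)))) := by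
  rw [FibDimLib.topologicalKrullDim_fiber_le_iff]
  intro x hx
  obtain ⟨x₀, hx₀, -, hmax, he⟩ := UOpenLib.exists_max_fibreDimAt f x
  obtain ⟨ζ, hζ, hζη⟩ := h x₀ (hx₀.trans hx)
  rw [← he, ← UOpenLib.fibreDimAt_eq_of_max f hmax]
  refine (fibreDimAt_le_fibreClosureDim hR f hζ hζη hmax).trans ?_
  rw [← hζη]
  exact FibDimLib.fibreClosureDim_le_fiber f ζ

end Groth.Agent.PruferFibLib
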